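import Cfsg.Agent.Lib.PackMatMul

/-!
# Splitting the kernel check of a straight line program of packed matrices (helper154)

`checkS C prog es ns L` is one kernel check, its memory grows with the number of products.  Here the program is cut into
segments; the results which are used later are given as literals (`Seg.N`), every segment is one kernel check of its own,
starting with literals.  `checkS_of_segs`: the complete check follows.
-/

set_option autoImplicit false

namespace Cfsg.Agent.H154.Split

open Cfsg.Agent.Lib.PackMat Cfsg.Agent.Lib.PackMatGroup Cfsg.Agent.Lib.PackMatMul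

variable {C : Cfg}

/-! ### Results -/

/-- the list of the results of a straight line program -/
noncomputable def vals (f : ℕ → ℕ → ℕ) : List (ℕ × List ℕ) → List ℕ → List ℕ
  | [], L => L
  | w :: ws, L => vals f ws (evL f L w.2 (get L w.1) :: L)

theorem vals_nil (f : ℕ → ℕ → ℕ) (L : List ℕ) : vals f [] L = L := rfl
theorem vals_cons (f : ℕ → ℕ → ℕ) (w : ℕ × List ℕ) (ws : List (ℕ × List ℕ)) (L : List ℕ) :
    vals f (w :: ws) L = vals f ws (evL f L w.2 (get L w.1) :: L) := rfl

theorem runS_eq (f : ℕ → ℕ → ℕ) (ws : List (ℕ × List ℕ)) (L : List ℕ) (k : List ℕ → Bool) :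
    runS f ws L k = k (vals f ws L) := by
  induction ws generalizing L with
  | nil => rfl
  | cons w ws ih => rw [runS_cons, vals_cons, ih]

theorem vals_append (f : ℕ → ℕ → ℕ) (u v : List (ℕ × List ℕ)) (L : List ℕ) :
    vals f (u ++ v) L = vals f v (vals f u L) := by
  induction u generalizing L with
  | nil => rfl
  | cons w u ih => rw [List.cons_append, vals_cons, vals_cons, ih]

/-- old results -/
theorem get_vals_add (f : ℕ → ℕ → ℕ) (ws : List (ℕ × List ℕ)) (L : List ℕ) (i : ℕ) :
    get (vals f ws L) (ws.length + i) = get L i := by
  induction ws generalizing L i with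
  | nil => rw [vals_nil, List.length_nil, zero_add]
  | cons w ws ih =>
    rw [vals_cons, List.length_cons, show ws.length + 1 + i = ws.length + (i + 1) by omega, ih, get_cons_succ]

theorem get_append_left {A B : List ℕ} {i : ℕ} (h : i < A.length) : get (A ++ B) i = get A i := by
  induction A generalizing i with
  | nil => simp at h
  | cons a A ih =>
    rw [List.cons_append]
    cases i with
    | zero => rfl
    | succ i =>
      rw [get_cons_succ, get_cons_succ]
      exact ih (by simpa using h)

theorem get_append_right (A B : List ℕ) (i : ℕ) : get (A ++ B) (A.length + i) = get B i := by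
  induction A generalizing i with
  | nil => rw [List.nil_append, List.length_nil, zero_add]
  | cons a A ih =>
    rw [List.cons_append, List.length_cons, show A.length + 1 + i = (A.length + i) + 1 by omega, get_cons_succ]
    exact ih i

/-! ### Agreement where a mark is set -/

/-- `V` and `W` agree where the mark in `m` is not zero -/
def Agm (m V W : List ℕ) : Prop := ∀ i, get m i ≠ 0 → get V i = get W i

theorem Agm.refl (m V : List ℕ) : Agm m V V := fun _ _ => rfl

/-- all letters are marked -/
def okWN (m : List ℕ) (w : List ℕ) : Bool := w.all fun i => !Nat.beq (get m i) 0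

/-- all letters of all steps are marked -/
def okN : List (ℕ × List ℕ) → List ℕ → Bool
  | [], _ => true
  | w :: ws, m => okWN m (w.1 :: w.2) && okN ws (1 :: m)

/-- the marks at the end -/
def mark : List (ℕ × List ℕ) → List ℕ → List ℕ
  | [], m => m
  | _ :: ws, m => mark ws (1 :: m)

theorem evL_congr {m V W : List ℕ} (h : Agm m V W) (f : ℕ → ℕ → ℕ) {w : List ℕ} (hw : okWN m w = true) (acc : ℕ) :
    evL f V w acc = evL f W w acc := by
  induction w generalizing acc with
  | nil => rfl
  | cons i w ih =>
    unfold okWN at hw ih
    rw [List.all_cons, Bool.and_eq_true] at hw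
    have hi : get m i ≠ 0 := by
      intro h0
      rw [h0] at hw
      simp at hw
    rw [evL_cons, evL_cons, h i hi]
    exact ih hw.2 _

theorem Agm.vals {m V W : List ℕ} (h : Agm m V W) (f : ℕ → ℕ → ℕ) {ws : List (ℕ × List ℕ)} (hw : okN ws m = true) :
    Agm (mark ws m) (vals f ws V) (vals f ws W) := by
  induction ws generalizing m V W with
  | nil => exact h
  | cons w ws ih =>
    unfold okN at hw
    rw [Bool.and_eq_true] at hw
    refine ih (m := 1 :: m) ?_ hw.2
    have h1 := hw.1
    unfold okWN at h1
    rw [List.all_cons, Bool.and_eq_true] at h1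
    have hi : get m w.1 ≠ 0 := by
      intro h0
      rw [h0] at h1
      simp at h1
    intro i hm
    cases i with
    | zero =>
      rw [get_cons_zero, get_cons_zero, h _ hi]
      exact evL_congr h f h1.2 _
    | succ i =>
      rw [get_cons_succ] at hm
      rw [get_cons_succ, get_cons_succ]
      exact h i hm

/-! ### Segments -/

/-- A segment of a program: steps, marks of the results which are used later, these results (others: anything), pairs of equal
results, pairs of different results (indices at the end of the segment). -/
structure Seg where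
  /-- steps -/
  ws : List (ℕ × List ℕ)
  /-- marks -/
  m : List ℕ
  /-- results -/
  N : List ℕ
  /-- equal results -/
  es : List (ℕ × ℕ)
  /-- different results -/
  ns : List (ℕ × ℕ)

/-- comparison of the marked results -/
noncomputable def eqN (m : List ℕ) : List ℕ → List ℕ → Bool :=
  List.rec (motive := fun _ => List ℕ → List ℕ → Bool) (fun _ _ => true)
    (fun a _ ih N V => bif Nat.beq a 0 then ih N.tail V.tail else
      bif Nat.beq (get N 0) (get V 0) then ih N.tail V.tail else false) m

/-- the kernel check of a segment -/
noncomputable def segC (C : Cfg) (s : Seg) (W : List ℕ) : Bool :=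
  withM C fun f => runS f s.ws W fun V => bif eqN s.m s.N V then bif eqS s.es V then neS s.ns V else false else false

/-- the static check of a segment -/
def segO (s : Seg) (m : List ℕ) : Bool :=
  okN s.ws m && Nat.beq s.m.length s.ws.length && Nat.beq s.N.length s.ws.length &&
    s.es.all (fun q => okWN (mark s.ws m) [q.1, q.2]) && s.ns.all (fun q => okWN (mark s.ws m) [q.1, q.2])

theorem get_tail (L : List ℕ) (i : ℕ) : get L.tail i = get L (i + 1) := by
  cases L with
  | nil => rfl
  | cons a L => rfl

theorem eqN_spec {m N V : List ℕ} (h : eqN m N V = true) (i : ℕ) (hi : get m i ≠ 0) : get V i = get N i := by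
  induction m generalizing N V i with
  | nil => exact absurd rfl hi
  | cons a m ih =>
    have h' : (bif Nat.beq a 0 then eqN m N.tail V.tail else
      bif Nat.beq (get N 0) (get V 0) then eqN m N.tail V.tail else false) = true := h
    have key : eqN m N.tail V.tail = true ∧ (a ≠ 0 → get V 0 = get N 0) := by
      rcases ha : Nat.beq a 0 with _ | _
      · rw [ha, cond_false] at h'
        rcases hb : Nat.beq (get N 0) (get V 0) with _ | _
        · rw [hb] at h'; simp at h'
        · rw [hb, cond_true] at h'
          exact ⟨h', fun _ => (Nat.eq_of_beq_eq_true hb).symm⟩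
      · rw [ha, cond_true] at h'
        exact ⟨h', fun h0 => absurd (Nat.eq_of_beq_eq_true ha) h0⟩
    cases i with
    | zero => exact key.2 hi
    | succ i =>
      rw [get_cons_succ] at hi
      have := ih key.1 i hi
      rwa [get_tail, get_tail] at this

theorem get_mark_add (ws : List (ℕ × List ℕ)) (m : List ℕ) (i : ℕ) : get (mark ws m) (ws.length + i) = get m i := by
  induction ws generalizing m i with
  | nil => rw [List.length_nil, zero_add]; rfl
  | cons w ws ih =>
    rw [mark, List.length_cons, show ws.length + 1 + i = ws.length + (i + 1) by omega, ih, get_cons_succ]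

theorem eqS_get {es : List (ℕ × ℕ)} {V : List ℕ} (h : eqS es V = true) : ∀ q ∈ es, get V q.1 = get V q.2 := by
  induction es with
  | nil => intro q hq; simp at hq
  | cons a es ih =>
    have he' : (bif Nat.beq (get V a.1) (get V a.2) then eqS es V else false) = true := h
    rcases hb : Nat.beq (get V a.1) (get V a.2) with _ | _
    · rw [hb] at he'; simp at he'
    rw [hb, cond_true] at he'
    intro q hq
    rcases List.mem_cons.mp hq with rfl | hq
    · exact Nat.eq_of_beq_eq_true hb
    · exact ih he' q hq

theorem neS_get {es : List (ℕ × ℕ)} {V : List ℕ} (h : neS es V = true) : ∀ q ∈ es, get V q.1 ≠ get V q.2 := by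
  induction es with
  | nil => intro q hq; simp at hq
  | cons a es ih =>
    have he' : (bif Nat.beq (get V a.1) (get V a.2) then false else neS es V) = true := h
    rcases hb : Nat.beq (get V a.1) (get V a.2) with _ | _
    · rw [hb, cond_false] at he'
      intro q hq
      rcases List.mem_cons.mp hq with rfl | hq
      · exact Nat.ne_of_beq_eq_false hb
      · exact ih he' q hq
    · rw [hb] at he'; simp at he'

theorem eqS_of_get {es : List (ℕ × ℕ)} {V : List ℕ} (h : ∀ q ∈ es, get V q.1 = get V q.2) : eqS es V = true := by
  induction es with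
  | nil => rfl
  | cons a es ih =>
    have e : eqS (a :: es) V = (bif Nat.beq (get V a.1) (get V a.2) then eqS es V else false) := rfl
    rw [e, h a List.mem_cons_self, Nat.beq_refl, cond_true]
    exact ih fun q hq => h q (List.mem_cons_of_mem _ hq)

theorem neS_of_get {es : List (ℕ × ℕ)} {V : List ℕ} (h : ∀ q ∈ es, get V q.1 ≠ get V q.2) : neS es V = true := by
  induction es with
  | nil => rfl
  | cons a es ih =>
    have e : neS (a :: es) V = (bif Nat.beq (get V a.1) (get V a.2) then false else neS es V) := rfl
    have h1 : Nat.beq (get V a.1) (get V a.2) = false := by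
      rcases hb : Nat.beq (get V a.1) (get V a.2) with _ | _
      · rfl
      · exact absurd (Nat.eq_of_beq_eq_true hb) (h a List.mem_cons_self)
    rw [e, h1, cond_false]
    exact ih fun q hq => h q (List.mem_cons_of_mem _ hq)

theorem okWN_two {m : List ℕ} {a b : ℕ} (h : okWN m [a, b] = true) : get m a ≠ 0 ∧ get m b ≠ 0 := by
  unfold okWN at h
  rw [List.all_cons, List.all_cons, Bool.and_eq_true, Bool.and_eq_true] at h
  constructor
  · intro h0
    rw [h0] at h
    simp at h
  · intro h0
    rw [h0] at h
    simp at h

/-- **one segment** -/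
theorem seg_spec {s : Seg} {m V W : List ℕ} (h : Agm m V W) (ho : segO s m = true) (hc : segC C s W = true) :
    Agm (s.m ++ m) (vals (mulM C) s.ws V) (s.N ++ W) ∧
      (∀ q ∈ s.es, get (vals (mulM C) s.ws V) q.1 = get (vals (mulM C) s.ws V) q.2) ∧
      (∀ q ∈ s.ns, get (vals (mulM C) s.ws V) q.1 ≠ get (vals (mulM C) s.ws V) q.2) := by
  unfold segO at ho
  simp only [Bool.and_eq_true, List.all_eq_true] at ho
  obtain ⟨⟨⟨⟨h1, h2⟩, h3⟩, h4⟩, h5⟩ := ho
  have h2' := Nat.eq_of_beq_eq_true h2
  have h3' := Nat.eq_of_beq_eq_true h3
  unfold segC at hc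
  rw [withM_eq, runS_eq] at hc
  have hag := h.vals (mulM C) h1
  rcases k1 : eqN s.m s.N (vals (mulM C) s.ws W) with _ | _
  · rw [k1] at hc; simp at hc
  rw [k1, cond_true] at hc
  rcases k2 : eqS s.es (vals (mulM C) s.ws W) with _ | _
  · rw [k2] at hc; simp at hc
  rw [k2, cond_true] at hc
  refine ⟨?_, ?_, ?_⟩
  · intro i hi
    by_cases hlt : i < s.ws.length
    · rw [get_append_left (by omega)] at hi
      rw [get_append_left (by omega), ← eqN_spec k1 i hi]
      refine hag i ?_
      -- the mark of a new result
      have : ∀ (ws : List (ℕ × List ℕ)) (m : List ℕ) (i : ℕ), i < ws.length → get (mark ws m) i ≠ 0 := by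
        intro ws
        induction ws with
        | nil => intro m i hi; simp at hi
        | cons w ws ih =>
          intro m i hi
          rw [mark]
          by_cases h' : i < ws.length
          · exact ih _ _ h'
          · have e : i = ws.length + 0 := by simp at hi; omega
            rw [e, get_mark_add, get_cons_zero]
            exact one_ne_zero
      exact this _ _ _ hlt
    · obtain ⟨j, rfl⟩ := Nat.exists_eq_add_of_le (Nat.not_lt.mp hlt)
      rw [get_vals_add]
      rw [← h2', get_append_right] at hi
      rw [← h3', get_append_right]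
      exact h j hi
  · intro q hq
    obtain ⟨a1, a2⟩ := okWN_two (h4 q hq)
    rw [hag _ a1, hag _ a2]
    exact eqS_get k2 q hq
  · intro q hq
    obtain ⟨a1, a2⟩ := okWN_two (h5 q hq)
    rw [hag _ a1, hag _ a2]
    exact neS_get hc q hq

/-! ### Chains of segments -/

/-- the kernel checks of all segments -/
def Chain (C : Cfg) : List ℕ → List Seg → Prop
  | _, [] => True
  | W, s :: t => segC C s W = true ∧ Chain C (s.N ++ W) t

/-- the static checks of all segments -/
def okC : List ℕ → List Seg → Bool
  | _, [] => true
  | m, s :: t => segO s m && okC (s.m ++ m) t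

/-- all steps -/
def allW : List Seg → List (ℕ × List ℕ)
  | [] => []
  | s :: t => s.ws ++ allW t

/-- all equalities, indices at the end -/
def allE : List Seg → List (ℕ × ℕ)
  | [] => []
  | s :: t => s.es.map (fun q => ((allW t).length + q.1, (allW t).length + q.2)) ++ allE t

/-- all inequalities, indices at the end -/
def allN : List Seg → List (ℕ × ℕ)
  | [] => []
  | s :: t => s.ns.map (fun q => ((allW t).length + q.1, (allW t).length + q.2)) ++ allN t

/-- the marks at the end -/
def allM : List ℕ → List Seg → List ℕ
  | m, [] => m
  | m, s :: t => allM (s.m ++ m) t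

/-- the literals at the end -/
def allL : List ℕ → List Seg → List ℕ
  | W, [] => W
  | W, s :: t => allL (s.N ++ W) t

theorem chain_spec {t : List Seg} {m V W : List ℕ} (h : Agm m V W) (ho : okC m t = true) (hc : Chain C W t) :
    Agm (allM m t) (vals (mulM C) (allW t) V) (allL W t) ∧
    (∀ q ∈ allE t, get (vals (mulM C) (allW t) V) q.1 = get (vals (mulM C) (allW t) V) q.2) ∧
      (∀ q ∈ allN t, get (vals (mulM C) (allW t) V) q.1 ≠ get (vals (mulM C) (allW t) V) q.2) := by
  induction t generalizing m V W with
  | nil => exact ⟨h, by simp [allE], by simp [allN]⟩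
  | cons s t ih =>
    unfold okC at ho
    rw [Bool.and_eq_true] at ho
    obtain ⟨h1, h2, h3⟩ := seg_spec h ho.1 hc.1
    obtain ⟨g1, g2, g3⟩ := ih h1 ho.2 hc.2
    rw [allW, vals_append]
    refine ⟨g1, ?_, ?_⟩
    · intro q hq
      rw [allE, List.mem_append] at hq
      rcases hq with hq | hq
      · obtain ⟨r, hr, rfl⟩ := List.mem_map.mp hq
        rw [get_vals_add, get_vals_add]
        exact h2 r hr
      · exact g2 q hq
    · intro q hq
      rw [allN, List.mem_append] at hq
      rcases hq with hq | hq
      · obtain ⟨r, hr, rfl⟩ := List.mem_map.mp hq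
        rw [get_vals_add, get_vals_add]
        exact h3 r hr
      · exact g3 q hq

/-- the marks at the beginning -/
def ones : ℕ → List ℕ
  | 0 => []
  | n + 1 => 1 :: ones n

/-- the static part of the check -/
def stat (ws : List (ℕ × List ℕ)) (es ns : List (ℕ × ℕ)) (n : ℕ) (t : List Seg) : Bool :=
  okS ws n && okC (ones n) t && decide (allW t = ws) && es.all (fun q => decide (q ∈ allE t)) &&
    ns.all (fun q => decide (q ∈ allN t))

/-- **the complete check from the checks of the segments** -/
theorem checkS_of_segs {ws : List (ℕ × List ℕ)} {es ns : List (ℕ × ℕ)} {L : List ℕ} (n : ℕ) (t : List Seg)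
    (hn : L.length = n) (hs : stat ws es ns n t = true) (hc : Chain C L t) : checkS C ws es ns L = true := by
  unfold stat at hs
  simp only [Bool.and_eq_true, List.all_eq_true, decide_eq_true_eq] at hs
  obtain ⟨⟨⟨⟨h1, h2⟩, rfl⟩, h4⟩, h5⟩ := hs
  obtain ⟨-, g2, g3⟩ := chain_spec (Agm.refl _ L) h2 hc
  unfold checkS
  rw [hn, h1, cond_true, withM_eq, runS_eq, eqS_of_get fun q hq => g2 q (h4 q hq), cond_true]
  exact neS_of_get fun q hq => g3 q (h5 q hq)

end Cfsg.Agent.H154.Split
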