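import Cfsg.Agent.H154.Split.Core
import Cfsg.Agent.H154.Split.HNTaD
import Cfsg.Agent.HN.A12Step

/-! The kernel check of `Cfsg.Agent.H315.Spr.HNTa`, one check for each segment of the program (helper154). -/

set_option autoImplicit false
set_option maxRecDepth 100000
set_option Elab.async false

namespace Cfsg.Agent.H154.Split.HNTa

open Cfsg.Agent.HN.RepData (C)
open Cfsg.Agent.HN.A12Step (L20)

/-- segment 0 -/
def S0 : Seg where
  ws := [
    (20, [21]),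
    (9, [9]),
    (11, [11]),
    (10, [10]),
    (0, [12, 1, 11]),
    (9, [9]),
    (12, [12]),
    (1, [12, 0, 11]),
    (9, [9]),
    (12, [12]),
    (1, [12, 0, 11]),
    (6, [3, 0]),
    (7, [4]),
    (8, [8, 5]),
    (4, [20, 11, 17]),
    (17, [17]),
    (0, [21, 14, 18]),
    (8, [21, 13, 18]),
    (3, [1, 0])]
  m := [1, 0, 0, 0, 0, 1, 1, 1, 0, 0, 1, 0, 1, 1, 0, 1, 1, 1, 1]
  N := [D18, 0, 0, 0, 0, D13, D12, D11, 0, 0, D8, 0, D6, D5, 0, D3, D2, D1, D0]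
  es := []
  ns := []

/-- segment 1 -/
def S1 : Seg where
  ws := [
    (19, [19]),
    (29, [28, 27, 25, 18, 14, 27, 13, 29, 0]),
    (29, [17, 29, 26, 15, 26, 23, 12, 23, 1]),
    (19, [28, 2, 23, 30, 44, 44, 46, 44, 44, 42, 48, 46, 44, 44, 28, 2, 23, 20]),
    (46, [43, 45, 50, 47, 46, 44])]
  m := [1, 1, 0, 0, 0]
  N := [D23, D22, 0, 0, 0]
  es := []
  ns := []

/-- segment 2 -/
def S2 : Seg where
  ws := [
    (0, [5, 1, 1, 11]),
    (0, [0]),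
    (0, [0]),
    (0, [0]),
    (0, [0]),
    (0, [3, 4]),
    (54, [57, 6, 56, 55, 11, 7, 17]),
    (0, [0]),
    (0, [0]),
    (0, [0]),
    (0, [0]),
    (0, [3, 4]),
    (58, [60, 12, 61, 59, 23]),
    (0, [0]),
    (0, [0]),
    (0, [0]),
    (0, [0]),
    (0, [3, 4])]
  m := [0, 0, 0, 0, 0, 0, 0, 0, 0, 0, 0, 0, 0, 0, 0, 0, 0, 0]
  N := [0, 0, 0, 0, 0, 0, 0, 0, 0, 0, 0, 0, 0, 0, 0, 0, 0, 0]
  es := [(12, 41), (6, 41), (0, 41)]
  ns := []

/-- segment 3 -/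
def S3 : Seg where
  ws := [
    (64, [18, 65, 30]),
    (0, [0]),
    (0, [0]),
    (0, [0]),
    (0, [0]),
    (0, [3, 4]),
    (69, [70, 24, 71, 68, 36, 35]),
    (0, [0]),
    (0, [0]),
    (0, [0]),
    (0, [0]),
    (0, [3, 4]),
    (77, [74, 78, 30, 79, 75, 76, 42, 42, 41]),
    (0, [0]),
    (0, [0]),
    (0, [0]),
    (0, [0]),
    (0, [3, 4])]
  m := [0, 0, 0, 0, 0, 0, 0, 0, 0, 0, 0, 0, 0, 0, 0, 0, 0, 0]
  N := [0, 0, 0, 0, 0, 0, 0, 0, 0, 0, 0, 0, 0, 0, 0, 0, 0, 0]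
  es := [(12, 59), (6, 59), (0, 59)]
  ns := []

/-- segment 4 -/
def S4 : Seg where
  ws := [
    (86, [36, 87, 60]),
    (0, [0]),
    (0, [0]),
    (0, [0]),
    (0, [0]),
    (0, [3, 4]),
    (86, [42, 87, 43]),
    (0, [0]),
    (0, [0]),
    (0, [0]),
    (0, [0]),
    (0, [3, 4]),
    (94, [48, 95, 58]),
    (0, [0]),
    (0, [0]),
    (0, [0]),
    (0, [0]),
    (0, [3, 4]),
    (100, [102, 54, 103, 101, 64, 78]),
    (0, [0]),
    (0, [0]),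
    (0, [0]),
    (0, [0]),
    (0, [3, 4])]
  m := [0, 0, 0, 0, 0, 0, 0, 0, 0, 0, 0, 0, 0, 0, 0, 0, 0, 0, 0, 0, 0, 0, 0, 0]
  N := [0, 0, 0, 0, 0, 0, 0, 0, 0, 0, 0, 0, 0, 0, 0, 0, 0, 0, 0, 0, 0, 0, 0, 0]
  es := [(18, 83), (12, 83), (6, 83), (0, 83)]
  ns := []

/-- segment 5 -/
def S5 : Seg where
  ws := [
    (110, [60, 111, 70, 84, 84]),
    (0, [0]),
    (0, [0]),
    (0, [0]),
    (0, [0]),
    (0, [3, 4]),
    (71, [77, 71, 77, 71, 77]),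
    (68, [78, 68, 78, 68, 78])]
  m := [0, 0, 0, 0, 0, 0, 0, 0]
  N := [0, 0, 0, 0, 0, 0, 0, 0]
  es := [(2, 91)]
  ns := [(1, 91), (0, 91)]

theorem c0 : segC C S0 (L20) = true := by decide +kernel
theorem c1 : segC C S1 (S0.N ++ L20) = true := by decide +kernel
theorem c2 : segC C S2 (S1.N ++ (S0.N ++ L20)) = true := by decide +kernel
theorem c3 : segC C S3 (S2.N ++ (S1.N ++ (S0.N ++ L20))) = true := by decide +kernel
theorem c4 : segC C S4 (S3.N ++ (S2.N ++ (S1.N ++ (S0.N ++ L20)))) = true := by decide +kernel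
theorem c5 : segC C S5 (S4.N ++ (S3.N ++ (S2.N ++ (S1.N ++ (S0.N ++ L20))))) = true := by decide +kernel

/-- the segments -/
def segs : List Seg := [S0, S1, S2, S3, S4, S5]

theorem chain : Chain C L20 segs := ⟨c0, c1, c2, c3, c4, c5, trivial⟩

end Cfsg.Agent.H154.Split.HNTa
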