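import Cfsg.Agent.H154.Split.Core
import Cfsg.Agent.H154.Split.HNThreeD
import Cfsg.Agent.HN.A12Step

/-! The kernel check of `Cfsg.Agent.H728.Four.HNThreeCommMat`, one check for each segment of the program (helper154). -/

set_option autoImplicit false
set_option maxRecDepth 100000
set_option Elab.async false

namespace Cfsg.Agent.H154.Split.HNThree

open Cfsg.Agent.HN.RepData (C)
open Cfsg.Agent.HN.A12Step (L20)

/-- segment 0 -/
def S0 : Seg where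
  ws := [
    (20, [21]),
    (9, [9]),
    (11, [11]),
    (10, [10]),
    (0, [12, 1, 11]),
    (9, [9]),
    (12, [12]),
    (1, [12, 0, 11]),
    (9, [9]),
    (12, [12]),
    (1, [12, 0, 11]),
    (6, [3, 0]),
    (7, [4]),
    (8, [8, 5]),
    (4, [20, 11, 17]),
    (17, [17]),
    (0, [21, 14, 18]),
    (8, [21, 13, 18]),
    (3, [1, 0])]
  m := [1, 0, 0, 0, 0, 1, 1, 0, 0, 0, 1, 0, 1, 1, 0, 1, 1, 1, 1]
  N := [D18, 0, 0, 0, 0, D13, D12, 0, 0, 0, D8, 0, D6, D5, 0, D3, D2, D1, D0]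
  es := []
  ns := []

/-- segment 1 -/
def S1 : Seg where
  ws := [
    (19, [19]),
    (29, [28, 27, 25, 18, 14, 27, 13, 29, 0]),
    (29, [17, 29, 26, 15, 26, 23, 12, 23, 1]),
    (19, [28, 2, 23, 30, 44, 44, 46, 44, 44, 42, 48, 46, 44, 44, 28, 2, 23, 20])]
  m := [1, 1, 0, 0]
  N := [D22, D21, 0, 0]
  es := []
  ns := []

/-- segment 2 -/
def S2 : Seg where
  ws := [
    (44, [46, 0, 50, 47, 0]),
    (1, [1, 48, 50, 1, 1, 46, 44]),
    (33, [31, 30, 29, 33, 31, 27, 28]),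
    (2, [0, 1]),
    (8, [4, 14]),
    (1, [0]),
    (1, [2]),
    (3, [3])]
  m := [0, 0, 0, 0, 0, 0, 0, 0]
  N := [0, 0, 0, 0, 0, 0, 0, 0]
  es := [(2, 1), (0, 30)]
  ns := [(4, 30)]

/-- segment 3 -/
def S3 : Seg where
  ws := [
    (53, [53, 8, 52, 58, 8]),
    (9, [9, 58, 52, 9, 9, 55, 55]),
    (41, [40, 35, 38, 33, 40, 35, 37]),
    (2, [0, 1]),
    (16, [12, 12, 22]),
    (1, [0]),
    (1, [2]),
    (3, [3])]
  m := [0, 0, 0, 0, 0, 0, 0, 0]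
  N := [0, 0, 0, 0, 0, 0, 0, 0]
  es := [(2, 1), (0, 38)]
  ns := [(4, 38)]

/-- segment 4 -/
def S4 : Seg where
  ws := [
    (63, [61, 59, 61, 59, 16]),
    (17, [17, 61, 63, 61, 63, 64]),
    (43, [41, 50, 49, 49, 50, 48, 47, 47, 48, 46, 44, 44, 46, 45, 42, 42, 45]),
    (2, [0, 1]),
    (29, [20]),
    (1, [0]),
    (1, [2]),
    (3, [3])]
  m := [0, 0, 0, 0, 0, 0, 0, 0]
  N := [0, 0, 0, 0, 0, 0, 0, 0]
  es := [(2, 1), (0, 46)]
  ns := [(4, 46)]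

/-- segment 5 -/
def S5 : Seg where
  ws := [
    (69, [24, 24, 73, 69, 68, 24, 24]),
    (25, [68, 71, 75, 25, 71]),
    (56, [52, 54, 51, 56, 52, 50, 49]),
    (2, [0, 1]),
    (32, [37, 28]),
    (1, [0]),
    (1, [2]),
    (3, [3])]
  m := [0, 0, 0, 0, 0, 0, 0, 0]
  N := [0, 0, 0, 0, 0, 0, 0, 0]
  es := [(2, 1), (0, 54)]
  ns := [(4, 54)]

/-- segment 6 -/
def S6 : Seg where
  ws := [
    (77, [32, 32, 81, 77, 76, 32, 32]),
    (33, [76, 79, 83, 33, 79]),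
    (66, [64, 65, 61, 66, 64, 59, 57]),
    (2, [0, 1]),
    (40, [40, 45, 36]),
    (1, [0]),
    (1, [2]),
    (3, [3])]
  m := [0, 0, 0, 0, 0, 0, 0, 0]
  N := [0, 0, 0, 0, 0, 0, 0, 0]
  es := [(2, 1), (0, 62)]
  ns := [(4, 62)]

/-- segment 7 -/
def S7 : Seg where
  ws := [
    (40, []),
    (41, [41]),
    (70, [68, 74, 73, 73, 74, 72, 65, 65, 72, 71, 69, 69, 71, 67, 66, 66, 67]),
    (2, [0, 1]),
    (48, [67]),
    (1, [0]),
    (1, [2]),
    (3, [3]),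
    (49, [57]),
    (58, [58, 50]),
    (51, [73]),
    (74, [74, 52])]
  m := [0, 0, 0, 0, 0, 0, 0, 0, 0, 0, 0, 0]
  N := [0, 0, 0, 0, 0, 0, 0, 0, 0, 0, 0, 0]
  es := [(6, 5), (4, 74), (3, 2), (1, 0)]
  ns := [(8, 74)]

theorem c0 : segC C S0 (L20) = true := by decide +kernel
theorem c1 : segC C S1 (S0.N ++ L20) = true := by decide +kernel
theorem c2 : segC C S2 (S1.N ++ (S0.N ++ L20)) = true := by decide +kernel
theorem c3 : segC C S3 (S2.N ++ (S1.N ++ (S0.N ++ L20))) = true := by decide +kernel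
theorem c4 : segC C S4 (S3.N ++ (S2.N ++ (S1.N ++ (S0.N ++ L20)))) = true := by decide +kernel
theorem c5 : segC C S5 (S4.N ++ (S3.N ++ (S2.N ++ (S1.N ++ (S0.N ++ L20))))) = true := by decide +kernel
theorem c6 : segC C S6 (S5.N ++ (S4.N ++ (S3.N ++ (S2.N ++ (S1.N ++ (S0.N ++ L20)))))) = true := by decide +kernel
theorem c7 : segC C S7 (S6.N ++ (S5.N ++ (S4.N ++ (S3.N ++ (S2.N ++ (S1.N ++ (S0.N ++ L20))))))) = true := by decide +kernel

/-- the segments -/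
def segs : List Seg := [S0, S1, S2, S3, S4, S5, S6, S7]

theorem chain : Chain C L20 segs := ⟨c0, c1, c2, c3, c4, c5, c6, c7, trivial⟩

end Cfsg.Agent.H154.Split.HNThree
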